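import Cfsg.Agent.H2.Rg.DcBig
import Cfsg.Agent.H997.Rg.Fam

/-!
# S3691, plus type, `m` odd: the designated primes (helper2)

* `Lo8`, `Sp8`, `Lo9` : the list lemmas in dimensions eight and nine (helper735, helper396, helper269)
* `exists_dodd_of` : the designated primes, from these
-/

set_option autoImplicit false
set_option linter.unusedSectionVars false

namespace Cfsg.Agent.H2.Rg

open Module QuadraticMap Cfsg Cfsg.Geo Cfsg.Agent.LieClassical.OrthCore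
  Cfsg.Agent.H449.Reg Cfsg.Agent.H884.El Cfsg.Agent.H826.RgF Cfsg.Agent.H851.Rl Cfsg.Agent.H2.Rb

/-- dimension eight -/
def Lo8 : Prop := ∀ {F : Type} [Field F] [Fintype F] {V : Type} [AddCommGroup V] [Module F V]
    [FiniteDimensional F V] {Q : QuadraticForm F V} {H : Subgroup (V ≃ₗ[F] V)}
    {p f r a : ℕ}, p.Prime → Fintype.card F = p ^ f → 5 ≤ p ^ f → Nondeg Q →
    finrank F V = 8 → H ≤ O Q → ∀ {g : V ≃ₗ[F] V}, g ∈ H → PP p (f * 8) r → orderOf g = r ^ a →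
    17 < r ^ a → AExt 2 H ∨ E Q ≤ H

/-- dimension eight, symplectic -/
def Sp8 : Prop := ∀ {F : Type} [Field F] [Fintype F] {V : Type} [AddCommGroup V] [Module F V]
    [FiniteDimensional F V] {Q : QuadraticForm F V} {H : Subgroup (V ≃ₗ[F] V)}
    {f r a : ℕ}, Fintype.card F = 2 ^ f → 5 ≤ 2 ^ f → Nondeg Q → finrank F V = 8 →
    (∀ h ∈ H, ∀ u v, polar Q (h u) (h v) = polar Q u v) → ∀ {g : V ≃ₗ[F] V}, g ∈ H → PP 2 (f * 8) r → orderOf g = r ^ a →
    17 < r ^ a → AExt 2 H ∨ (∀ x : V ≃ₗ[F] V, (∀ u v, polar Q (x u) (x v) = polar Q u v) → x ∈ H) ∨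
    (∃ Q' : QuadraticForm F V, (∀ u v, polar Q' u v = polar Q u v) ∧ E Q' ≤ H)

/-- dimension nine -/
def Lo9 : Prop := ∀ {F : Type} [Field F] [Fintype F] {V : Type} [AddCommGroup V] [Module F V]
    [FiniteDimensional F V] {Q : QuadraticForm F V} {H : Subgroup (V ≃ₗ[F] V)}
    {p f r a : ℕ}, p.Prime → p ≠ 2 → Fintype.card F = p ^ f → 5 ≤ p ^ f → Nondeg Q →
    finrank F V = 9 → H ≤ O Q → ∀ {g : V ≃ₗ[F] V}, g ∈ H → PP p (f * 8) r → orderOf g = r ^ a →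
    17 < r ^ a → (∃ W : Submodule F V, W ≠ ⊥ ∧ W ≠ ⊤ ∧ ∀ h ∈ H, ∀ w ∈ W, h w ∈ W) ∨ E Q ≤ H

theorem pp_5_6 : PP 5 6 7 := ⟨by norm_num, (orderOf_eq_iff (by norm_num)).2 ⟨by decide +kernel, by decide +kernel⟩⟩
theorem pp_5_5 : PP 5 5 71 := ⟨by norm_num, (orderOf_eq_iff (by norm_num)).2 ⟨by decide +kernel, by decide +kernel⟩⟩
theorem pp_17_6 : PP 17 6 7 := ⟨by norm_num, (orderOf_eq_iff (by norm_num)).2 ⟨by decide +kernel, by decide +kernel⟩⟩
theorem pp_17_5 : PP 17 5 88741 := ⟨by norm_num, (orderOf_eq_iff (by norm_num)).2 ⟨by decide +kernel, by decide +kernel⟩⟩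

variable {F : Type} [Field F] [Fintype F] {p f m : ℕ}

/-- `m = 5` : `Dc` -/
theorem dc_five (hP : H659.CovCore.S5948Stmt.{0}) (h8 : Lo8) (hs8 : Sp8) (h9 : Lo9) (hp : p.Prime) (hF : Nat.card F = p ^ f)
    (h5 : 5 ≤ p ^ f) {r2 i r4 j : ℕ} (h : Big p f 8 r2 i) (h4 : PP p (f * 6) r4) (hj : 1 ≤ j)
    (hd : r4 ^ j ∣ (p ^ f) ^ 6 - 1) : Dc F p f 5 r2 i r4 j := by
  have hF' : Fintype.card F = p ^ f := by rw [← Nat.card_eq_fintype_card, hF]
  have h2p : (2 : F) = 0 → p = 2 := by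
    intro h0
    have := Fact.mk hp
    have hch : CharP F p := charP_of_card_eq_prime_pow hF'
    have h1 : ((2 : ℕ) : F) = 0 := by exact_mod_cast h0
    have h3 := (CharP.cast_eq_zero_iff F p 2).1 h1
    exact (Nat.prime_dvd_prime_iff_eq hp Nat.prime_two).1 h3
  have hp2 : (2 : F) ≠ 0 → p ≠ 2 := by
    rintro h0 rfl
    have h1 := Nat.cast_card_eq_zero F
    rw [← Nat.card_eq_fintype_card, hF] at h1
    push_cast at h1
    exact h0 (pow_eq_zero_iff (by have := h.hf; omega) |>.1 h1)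
  refine ⟨big_pp h, big_one_le h, h.dvd, h4, hj, hd, ?_, ?_, fun h20 => ?_, fun h20 => ?_⟩
  · exact LO.lb (lo_big hP hF h (by norm_num) (by norm_num) (by norm_num))
  · intro V _ _ _ Q hQ hn A hA ⟨g, hg, ho⟩ _
    rcases h8 hp hF' h5 hQ (by rw [hn]) hA hg (big_pp h) ho h.big with h1 | h1
    · exact Or.inr (Or.inl ⟨2, Nat.prime_two, h1⟩)
    · exact Or.inr (Or.inr h1)
  · intro V _ _ _ Q hQ hn A hA ⟨g, hg, ho⟩ _
    rcases h9 hp (hp2 h20) hF' h5 hQ (by rw [hn]) hA hg (big_pp h) ho h.big with h1 | h1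
    · exact Or.inl h1
    · exact Or.inr (Or.inr h1)
  · obtain rfl := h2p h20
    intro V _ _ _ Q hQ hn A hA ⟨g, hg, ho⟩ _
    rcases hs8 hF' h5 hQ (by rw [hn]) hA hg (big_pp h) ho h.big with h1 | h1 | h1
    · exact Or.inr (Or.inl ⟨2, Nat.prime_two, h1⟩)
    · exact Or.inr (Or.inr (Or.inl h1))
    · exact Or.inr (Or.inr (Or.inr h1))

/-- **the designated primes**, `m` odd -/
theorem exists_dodd_of (h8 : Lo8) (hs8 : Sp8) (h9 : Lo9) (hP : H659.CovCore.S5948Stmt.{0})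
    (hKS : ∀ (T : Type) [Group T] [Finite T] [IsSimpleGroup T], IsKnownSimple' T)
    (hp : p.Prime) (hf : 1 ≤ f) (hF : Nat.card F = p ^ f) (hm : 5 ≤ m)
    (hodd : Odd m) (hS : H997.Rg.SzM m (p ^ f)) : ∃ r2 i r4 j w, DOdd F p f m r2 i r4 j w := by
  obtain ⟨w0, hw0⟩ := exists_pp hp hf hm hodd
  by_cases e5 : m = 5
  · subst e5
    have h5 : 5 ≤ p ^ f := hS.2.1 rfl
    have h7 : ¬ (p = 2 ∧ f = 1) ∧ ¬ (p = 2 ∧ f = 2) ∧ ¬ (p = 3 ∧ f = 1) := by
      refine ⟨?_, ?_, ?_⟩ <;> rintro ⟨rfl, rfl⟩ <;> norm_num at h5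
    obtain ⟨r2, h2⟩ := H951.Rl.exists_big (k := 8) hp hf (by norm_num) (by
      intro h
      simp only [List.mem_cons, Prod.mk.injEq, List.not_mem_nil, or_false] at h
      omega)
    by_cases e1 : p = 5 ∧ f = 1
    · obtain ⟨rfl, rfl⟩ := e1
      refine ⟨r2, _, 7, 1, 71, dc_five hP h8 hs8 h9 hp hF h5 h2 pp_5_6 le_rfl (pp_dvd (f := 1) hp pp_5_6), pp_5_5,
        lo_big hP hF h2 (by norm_num) (by norm_num) (by norm_num), ?_⟩
      exact lo_ref hKS (by rw [hF, pow_one]) (by decide)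
    by_cases e2 : p = 17 ∧ f = 1
    · obtain ⟨rfl, rfl⟩ := e2
      refine ⟨r2, _, 7, 1, 88741, dc_five hP h8 hs8 h9 hp hF h5 h2 pp_17_6 le_rfl (pp_dvd (f := 1) hp pp_17_6), pp_17_5,
        lo_big hP hF h2 (by norm_num) (by norm_num) (by norm_num), ?_⟩
      exact lo_ref hKS (by rw [hF, pow_one]) (by decide)
    obtain ⟨r4, h4⟩ := H951.Rl.exists_big (k := 6) hp hf (by norm_num) (by
      intro h
      simp only [List.mem_cons, Prod.mk.injEq, List.not_mem_nil, or_false] at h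
      omega)
    exact ⟨r2, _, r4, _, w0, dc_five hP h8 hs8 h9 hp hF h5 h2 (big_pp h4) (big_one_le h4) h4.dvd, hw0,
      lo_big hP hF h2 (by norm_num) (by norm_num) (by norm_num), lo_big hP hF h4 (by norm_num) (by norm_num) (by norm_num)⟩
  have hm7 : 7 ≤ m := by
    obtain ⟨a, ha⟩ := hodd
    omega
  by_cases e11 : m = 11 ∧ p = 2 ∧ f = 1
  · obtain ⟨rfl, rfl, rfl⟩ := e11
    have hF' : Nat.card F = 2 := by rw [hF, pow_one]
    have h20 : (2 : F) = 0 := by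
      have h1 := Nat.cast_card_eq_zero F
      rw [← Nat.card_eq_fintype_card, hF'] at h1
      exact_mod_cast h1
    exact ⟨41, 1, 19, 1, 89, ⟨pp_two_20, le_rfl, pp_dvd (f := 1) hp pp_two_20, pp_two_18, le_rfl, pp_dvd (f := 1) hp pp_two_18,
      LO.lb (lo_ref (n := 22) (k := 20) hKS hF' (by decide)), LO.lb (lo_ref (n := 20) (k := 20) hKS hF' (by decide)),
      fun h => absurd h20 h, fun h => LS.lb (ls_ref (n := 20) (k := 20) hKS h hF' (by decide))⟩, pp_two_11,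
      lo_ref hKS hF' (by decide), lo_ref hKS hF' (by decide)⟩
  by_cases e11' : m = 11 ∧ p = 3 ∧ f = 1
  · obtain ⟨rfl, rfl, rfl⟩ := e11'
    have hF' : Nat.card F = 3 := by rw [hF, pow_one]
    obtain ⟨r2, h2⟩ := H951.Rl.exists_big (k := 20) hp hf (by norm_num) (by decide)
    exact ⟨r2, _, 37, 1, 3851, dc_big hP hF (by norm_num) h2 pp_three_18 le_rfl (pp_dvd (f := 1) hp pp_three_18), pp_three_11,
      lo_big hP hF h2 (by norm_num) (by norm_num) (by norm_num), lo_ref hKS hF' (by decide)⟩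
  have h7 : m ≤ 7 → ¬ (p = 2 ∧ f = 1) := by
    rintro h ⟨rfl, rfl⟩
    have := hS.2.2 h
    norm_num at this
  obtain ⟨r2, h2⟩ := H951.Rl.exists_big (k := 2 * m - 2) hp hf (by omega) (by
    intro h
    obtain ⟨a, ha⟩ := hodd
    simp only [List.mem_cons, Prod.mk.injEq, List.not_mem_nil, or_false] at h
    omega)
  obtain ⟨r4, h4⟩ := H951.Rl.exists_big (k := 2 * m - 4) hp hf (by omega) (by
    intro h
    obtain ⟨a, ha⟩ := hodd
    simp only [List.mem_cons, Prod.mk.injEq, List.not_mem_nil, or_false] at h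
    omega)
  exact ⟨r2, _, r4, _, w0, dc_big hP hF (by omega) h2 (big_pp h4) (big_one_le h4) h4.dvd, hw0,
    lo_big hP hF h2 (by omega) (by omega) (by omega), lo_big hP hF h4 (by omega) (by omega) (by omega)⟩

end Cfsg.Agent.H2.Rg
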