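import Cfsg.Agent.H826.RgF.Data
import Cfsg.Agent.H2.Rb.Des

/-!
# S3691, plus type: `Dc` from a large primitive prime power (helper2)

* `dc_big` : `r2` large;  `dc_big'` : `r4` large (`m ≥ 6`)
* `exists_pp` : primitive primes
-/

set_option autoImplicit false
set_option linter.unusedSectionVars false

namespace Cfsg.Agent.H2.Rg

open Module QuadraticMap Cfsg Cfsg.Geo Cfsg.Agent.LieClassical.OrthCore
  Cfsg.Agent.H449.Reg Cfsg.Agent.H884.El Cfsg.Agent.H826.RgF Cfsg.Agent.H851.Rl Cfsg.Agent.H2.Rb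

theorem big_one_le {p f k r a : ℕ} (h : Big p f k r a) : 1 ≤ a := by
  by_contra hcon
  have h0 : a = 0 := by omega
  have := h.big
  rw [h0, pow_zero] at this
  omega

theorem big_pp {p f k r a : ℕ} (h : Big p f k r a) : PP p (f * k) r := ⟨h.prime, h.ord⟩

variable {F : Type} [Field F] [Fintype F] {p f m r2 i r4 j : ℕ}

/-- `r2` large -/
theorem dc_big (hP : H659.CovCore.S5948Stmt.{0}) (hF : Nat.card F = p ^ f) (hm : 6 ≤ m) (h : Big p f (2 * m - 2) r2 i)
    (h4 : PP p (f * (2 * m - 4)) r4) (hj : 1 ≤ j) (hd : r4 ^ j ∣ (p ^ f) ^ (2 * m - 4) - 1) : Dc F p f m r2 i r4 j where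
  pp2 := big_pp h
  pos2 := big_one_le h
  dvd2 := h.dvd
  pp4 := h4
  pos4 := hj
  dvd4 := hd
  lb := LO.lb (lo_big hP hF h (by omega) (by omega) (by omega))
  lb2 := LO.lb (lo_big hP hF h (by omega) (by omega) (by omega))
  lb1 := fun _ => LO.lb (lo_big hP hF h (by omega) (by omega) (by omega))
  lbs := fun h2 => LS.lb (ls_big hP h2 hF h (by omega) (by omega) (by omega))

/-- `r4` large -/
theorem dc_big' (hP : H659.CovCore.S5948Stmt.{0}) (hF : Nat.card F = p ^ f) (hm : 6 ≤ m) (h : Big p f (2 * m - 4) r4 j)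
    (h2 : PP p (f * (2 * m - 2)) r2) (hi : 1 ≤ i) (hd : r2 ^ i ∣ (p ^ f) ^ (2 * m - 2) - 1) : Dc F p f m r2 i r4 j where
  pp2 := h2
  pos2 := hi
  dvd2 := hd
  pp4 := big_pp h
  pos4 := big_one_le h
  dvd4 := h.dvd
  lb := LB.symm (LO.lb (lo_big hP hF h (by omega) (by omega) (by omega)))
  lb2 := LB.symm (LO.lb (lo_big hP hF h (by omega) (by omega) (by omega)))
  lb1 := fun _ => LB.symm (LO.lb (lo_big hP hF h (by omega) (by omega) (by omega)))
  lbs := fun h2 => LBS.symm (LS.lb (ls_big hP h2 hF h (by omega) (by omega) (by omega)))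

/-- primitive primes of odd order `≥ 5` -/
theorem exists_pp {p f c : ℕ} (hp : p.Prime) (hf : 1 ≤ f) (hc : 5 ≤ c) (ho : Odd c) : ∃ l, PP p (f * c) l := by
  have h5 : f * 5 ≤ f * c := Nat.mul_le_mul_left f hc
  obtain ⟨l, hl, h⟩ := Lib.Zsigmondy.exists_prime_orderOf (a := p) (n := f * c) hp.two_le (by omega) (by omega) (by
    rintro ⟨-, h6⟩
    have h1 : f = 1 := by
      by_contra h1
      have := Nat.mul_le_mul (by omega : 2 ≤ f) hc
      omega
    rw [h1, one_mul] at h6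
    rw [h6] at ho
    exact (by decide : ¬ Odd 6) ho)
  exact ⟨l, hl, h⟩

/-- any primitive prime divides `q ^ k - 1` -/
theorem pp_dvd {p f k r : ℕ} (hp : p.Prime) (h : PP p (f * k) r) : r ^ 1 ∣ (p ^ f) ^ k - 1 := by
  rw [pow_one, ← pow_mul]
  exact (h.dvd_iff hp.one_le _).2 dvd_rfl

end Cfsg.Agent.H2.Rg
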